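import Groth.Agent.Lib.BCQFlat20.Theta
import Groth.Agent.Lib.AssPts.Flat
import Groth.Agent.Lib.Cohom.Serre
import Groth.Agent.Lib.FunMor20.Datum
import Groth.Prelude.Def_CohBC2

/-!
# The base change morphism in degree `q` of a flat base change is an isomorphism
-/

set_option autoImplicit false
set_option backward.isDefEq.respectTransparency false
set_option backward.isDefEq.respectTransparency.types false
set_option linter.style.haveILetI false
set_option maxHeartbeats 1000000
set_option linter.unusedSectionVars false
universe v₁ v₂ w₁ w₂ u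

open CategoryTheory CategoryTheory.Limits AlgebraicGeometry
open GrothLib.GenFlatBC9 GrothLib.Cohom
open GrothLib.Cohom (pushCx)

noncomputable section

namespace GrothLib.BCQFlat20

section Transpose

variable {A : Type w₁} [Category.{v₁} A] [Abelian A] {B : Type w₂} [Category.{v₂} B] [Abelian B]
  {L : A ⥤ B} {Ψ : B ⥤ A} [Ψ.Additive] [PreservesFiniteLimits Ψ] (adj : L ⊣ Ψ)
  {K : CochainComplex A ℕ} {K' : CochainComplex B ℕ} (Φ : K ⟶ (Ψ.mapHomologicalComplex _).obj K') (p : ℕ)

/-- A map of complexes into `Ψ K'` induces a map `L (H^p K) ⟶ H^p K'`. -/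
def transHom : L.obj (K.homology p) ⟶ K'.homology p :=
  (adj.homEquiv _ _).symm (HomologicalComplex.homologyMap Φ p ≫ RDer.homologyComparison Ψ K' p)

/-- Its form on cycles. -/
def transCyc : L.obj (K.cycles p) ⟶ K'.cycles p :=
  (adj.homEquiv _ _).symm (HomologicalComplex.cyclesMap Φ p ≫ RDer.cyclesComparison Ψ K' p)

theorem transCyc_i : transCyc adj Φ p ≫ K'.iCycles p =
    L.map (K.iCycles p) ≫ (adj.homEquiv _ _).symm (Φ.f p) := by
  rw [transCyc, ← adj.homEquiv_naturality_right_symm, ← adj.homEquiv_naturality_left_symm, Category.assoc,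
    RDer.cyclesComparison_i, HomologicalComplex.cyclesMap_i]

theorem π_transHom : L.map (K.homologyπ p) ≫ transHom adj Φ p = transCyc adj Φ p ≫ K'.homologyπ p := by
  rw [transHom, transCyc, ← adj.homEquiv_naturality_left_symm, ← adj.homEquiv_naturality_right_symm,
    HomologicalComplex.homologyπ_naturality_assoc, RDer.homologyπ_homologyComparison, Category.assoc]

end Transpose

variable {X S X' S' : Scheme.{u}} {f : X ⟶ S} {g : S' ⟶ S} {g' : X' ⟶ X} {f' : X' ⟶ S'}

/-- `f'^* O ⊗ g'^* N ≅ g'^* N`. -/
def rho (g' : X' ⟶ X) (f' : X' ⟶ S') (N : X.Modules) :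
    (TL g' ((Scheme.Modules.pullback f').obj (Coh.structureModule S'))).obj N ≅ (Scheme.Modules.pullback g').obj N :=
  ((DCoh.tensorBi (X := X')).mapIso (OX.pullUnitIso f')).app _ ≪≫ OX.tensorUnitLeftIso _

theorem rho_natural (g' : X' ⟶ X) (f' : X' ⟶ S') {N N' : X.Modules} (a : N ⟶ N') :
    (TL g' ((Scheme.Modules.pullback f').obj (Coh.structureModule S'))).map a ≫ (rho g' f' N').hom =
      (rho g' f' N).hom ≫ (Scheme.Modules.pullback g').map a := by
  show ((DCoh.tensorBi (X := X')).obj _).map ((Scheme.Modules.pullback g').map a) ≫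
      ((DCoh.tensorBi (X := X')).map (OX.pullUnitIso f').hom).app _ ≫ (OX.tensorUnitLeftIso _).hom =
    (((DCoh.tensorBi (X := X')).map (OX.pullUnitIso f').hom).app _ ≫ (OX.tensorUnitLeftIso _).hom) ≫ _
  rw [NatTrans.naturality_assoc, FunMor20.tensorUnitLeftIso_natural, Category.assoc]

theorem theta_rho (sq : IsPullback g' f' f g) (N : X.Modules) :
    theta sq (Coh.structureModule S') N ≫ (Scheme.Modules.pushforward f').map (rho g' f' N).hom =
      (OX.tensorUnitLeftIso _).hom ≫ AffBC.bcMap sq N := by
  have h : ProjFormula.projHom f' (Coh.structureModule S') ((Scheme.Modules.pullback g').obj N) ≫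
      (Scheme.Modules.pushforward f').map (rho g' f' N).hom =
      (OX.tensorUnitLeftIso ((Scheme.Modules.pushforward f').obj ((Scheme.Modules.pullback g').obj N))).hom :=
    ProjFormula.hom_ext_tmul fun U r v => by
      change (DCoh.toP.map (OX.tensorUnitLeftIso _).hom).app (Opposite.op (f' ⁻¹ᵁ U))
          ((DCoh.toP.map (((DCoh.tensorBi (X := X')).map (OX.pullUnitIso f').hom).app _)).app (Opposite.op (f' ⁻¹ᵁ U))
            ((DCoh.toP.map (ProjFormula.projHom f' (Coh.structureModule S') _)).app (Opposite.op U)
              (OX.tmulSec (Coh.structureModule S') _ U r v))) = _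
      refine (congrArg (fun z => (DCoh.toP.map (OX.tensorUnitLeftIso _).hom).app (Opposite.op (f' ⁻¹ᵁ U))
        ((DCoh.toP.map (((DCoh.tensorBi (X := X')).map (OX.pullUnitIso f').hom).app _)).app
          (Opposite.op (f' ⁻¹ᵁ U)) z))
        (ProjFormula.projHom_tmulSec f' _ _ U r v)).trans ?_
      refine (congrArg _ (ProjFormula.map_left_tmulSec _ _ (f' ⁻¹ᵁ U) _ v)).trans ?_
      refine (congrArg (fun s => (DCoh.toP.map (OX.tensorUnitLeftIso _).hom).app (Opposite.op (f' ⁻¹ᵁ U))
        (OX.tmulSec (Coh.structureModule X') _ (f' ⁻¹ᵁ U) s v)) (ProjFormula.pullUnitIso_pullSec f' U r)).trans ?_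
      exact (ProjFormula.tensorUnitLeftIso_tmulSec _ (f' ⁻¹ᵁ U) (f'.app U r) v).trans
        (ProjFormula.tensorUnitLeftIso_tmulSec _ U r v).symm
  rw [theta, Category.assoc, h, FunMor20.tensorUnitLeftIso_natural]

variable (sq : IsPullback g' f' f g)

/-- `f_* g'_* ≅ g_* f'_*`. -/
abbrev sqIso : Scheme.Modules.pushforward g' ⋙ Scheme.Modules.pushforward f ≅
    Scheme.Modules.pushforward f' ⋙ Scheme.Modules.pushforward g :=
  Scheme.Modules.pushforwardComp g' f ≪≫ Scheme.Modules.pushforwardCongr sq.w ≪≫
    (Scheme.Modules.pushforwardComp f' g).symm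

theorem bcMap_transpose {N : X.Modules} {P : X'.Modules} (w : N ⟶ (Scheme.Modules.pushforward g').obj P) :
    ((Scheme.Modules.pullbackPushforwardAdjunction g).homEquiv _ _).symm
        ((Scheme.Modules.pushforward f).map w ≫ (sqIso sq).hom.app P) =
      AffBC.bcMap sq N ≫ (Scheme.Modules.pushforward f').map
        (((Scheme.Modules.pullbackPushforwardAdjunction g').homEquiv _ _).symm w) := by
  obtain ⟨v, rfl⟩ := ((Scheme.Modules.pullbackPushforwardAdjunction g').homEquiv _ _).surjective w
  rw [Equiv.symm_apply_apply, AffBC.bcMap, ← Adjunction.homEquiv_naturality_right_symm, Adjunction.homEquiv_unit,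
    Functor.map_comp, Category.assoc]
  congr 1
  show _ ≫ (Scheme.Modules.pushforward g' ⋙ Scheme.Modules.pushforward f).map v ≫ (sqIso sq).hom.app P =
    AffBC.bcV sq N ≫ (Scheme.Modules.pushforward f' ⋙ Scheme.Modules.pushforward g).map v
  rw [(sqIso sq).hom.naturality v]
  simp [AffBC.bcV, sqIso]

variable [HasInjectiveResolutions X.Modules] [HasInjectiveResolutions X'.Modules]
  [PreservesFiniteLimits (Scheme.Modules.pullback g')]

/-- The lift of the unit to resolutions. -/
def liftUnit (M : X.Modules) : (injectiveResolution M).cocomplex ⟶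
    ((Scheme.Modules.pushforward g').mapHomologicalComplex _).obj
      (injectiveResolution ((Scheme.Modules.pullback g').obj M)).cocomplex :=
  InjectiveResolution.desc ((Scheme.Modules.pullbackPushforwardAdjunction g').unit.app M)
    (injectiveResolution ((Scheme.Modules.pushforward g').obj ((Scheme.Modules.pullback g').obj M)))
    (injectiveResolution M) ≫
  RDer.descToInjectives (𝟙 _)
    (injectiveResolution ((Scheme.Modules.pushforward g').obj ((Scheme.Modules.pullback g').obj M))).cocomplex
    (injectiveResolution ((Scheme.Modules.pushforward g').obj ((Scheme.Modules.pullback g').obj M))).ι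
    _ (RDer.mapAug (Scheme.Modules.pushforward g') (injectiveResolution ((Scheme.Modules.pullback g').obj M)).ι)

theorem liftUnit_zero (M : X.Modules) :
    (injectiveResolution M).ι.f 0 ≫ (liftUnit (g' := g') M).f 0 =
      ((Scheme.Modules.pullbackPushforwardAdjunction g').unit.app M) ≫
        (Scheme.Modules.pushforward g').map ((injectiveResolution ((Scheme.Modules.pullback g').obj M)).ι.f 0) := by
  rw [liftUnit, HomologicalComplex.comp_f, ← Category.assoc, InjectiveResolution.desc_commutes_zero,
    Category.assoc]
  erw [RDer.ι_descToInjectives_f_zero]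
  simp [HomologicalComplex.singleMapHomologicalComplex_inv_app_self]

/-- The map of complexes underlying the base change morphism. -/
def bcCx (M : X.Modules) : pushCx f (injectiveResolution M).cocomplex ⟶
    ((Scheme.Modules.pushforward g).mapHomologicalComplex _).obj
      (pushCx f' (injectiveResolution ((Scheme.Modules.pullback g').obj M)).cocomplex) :=
  ((Scheme.Modules.pushforward f).mapHomologicalComplex _).map (liftUnit (g' := g') M) ≫
    (NatTrans.mapHomologicalComplex (sqIso sq).hom _).app
      (injectiveResolution ((Scheme.Modules.pullback g').obj M)).cocomplex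

theorem bcQ_eq (M : X.Modules) (q : ℕ) :
    CohBC.bcQ f g f' g' sq.w q M =
      (Scheme.Modules.pullback g).map ((injectiveResolution M).isoRightDerivedObj (Scheme.Modules.pushforward f) q).hom ≫
      transHom (Scheme.Modules.pullbackPushforwardAdjunction g) (bcCx sq M) q ≫
      ((injectiveResolution ((Scheme.Modules.pullback g').obj M)).isoRightDerivedObj
        (Scheme.Modules.pushforward f') q).inv := by
  have key : CohBC.bcQAdj f g f' g' sq.w q M =
      ((injectiveResolution M).isoRightDerivedObj (Scheme.Modules.pushforward f) q).hom ≫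
      (HomologicalComplex.homologyMap (bcCx sq M) q ≫
        RDer.homologyComparison (Scheme.Modules.pushforward g) _ q) ≫
      (Scheme.Modules.pushforward g).map ((injectiveResolution ((Scheme.Modules.pullback g').obj M)).isoRightDerivedObj
        (Scheme.Modules.pushforward f') q).inv := by
    rw [bcCx, liftUnit, Functor.map_comp, HomologicalComplex.homologyMap_comp,
      HomologicalComplex.homologyMap_comp]
    dsimp only [CohBC.bcQAdj, CohBC.RpushSquareIso, Coh.Rpush, RDer.edgeIn, RDer.edgeOut, RDer.rightDerivedIso]
    rw [Functor.rightDerived_map_eq (Scheme.Modules.pushforward f) q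
      ((Scheme.Modules.pullbackPushforwardAdjunction g').unit.app M)
      (InjectiveResolution.desc ((Scheme.Modules.pullbackPushforwardAdjunction g').unit.app M)
        (injectiveResolution ((Scheme.Modules.pushforward g').obj ((Scheme.Modules.pullback g').obj M)))
        (injectiveResolution M)) (InjectiveResolution.desc_commutes _ _ _),
      InjectiveResolution.rightDerived_app_eq (sqIso sq).hom
        (injectiveResolution ((Scheme.Modules.pullback g').obj M)) q]
    simp only [Category.assoc, Iso.inv_hom_id_assoc]
    rfl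
  rw [CohBC.bcQ, key, Adjunction.homEquiv_naturality_left_symm, Adjunction.homEquiv_naturality_right_symm]
  rfl

theorem isIso_transHom [QuasiCompact f] [QuasiSeparated f] [Flat g] (M : X.Modules) [M.IsQuasicoherent] (q : ℕ) :
    IsIso (transHom (Scheme.Modules.pullbackPushforwardAdjunction g) (bcCx sq M) q) := by
  let O := Coh.structureModule S'
  haveI : O.IsQuasicoherent := Cohom.isQuasicoherent_structureModule S'
  have hO : FlatMod.IsFlatOver g O := fun x => AssPts.isFlatOverAt_structure g x
  haveI : QuasiCompact f' := MorphismProperty.of_isPullback (P := @QuasiCompact) sq ‹_›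
  haveI : QuasiSeparated f' := MorphismProperty.of_isPullback (P := @QuasiSeparated) sq ‹_›
  haveI : ((Scheme.Modules.pullback f').obj O).IsQuasicoherent := FittSheaf.isQuasicoherent_pullback f' O
  haveI : ((Scheme.Modules.pullback g').obj M).IsQuasicoherent := FittSheaf.isQuasicoherent_pullback g' M
  haveI : (tgtMod O M f' g').IsQuasicoherent := isQuasicoherent_tens _ _
  let P := injectiveResolution ((Scheme.Modules.pullback g').obj M)
  let P' : InjectiveResolution (tgtMod O M f' g') :=
    { cocomplex := P.cocomplex
      ι := (CochainComplex.single₀ X'.Modules).map (rho g' f' M).hom ≫ P.ι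
      injective := P.injective }
  let I : Cohom.FlRes M := .ofInjective (injectiveResolution M)
  let R : Cohom.FlRes (tgtMod O M f' g') := .ofInjective P'
  let adj' := Scheme.Modules.pullbackPushforwardAdjunction g'
  let w : ∀ n, (Scheme.Modules.pullback g').obj (I.cocomplex.X n) ⟶ P.cocomplex.X n :=
    fun n => (adj'.homEquiv _ _).symm ((liftUnit (g' := g') M).f n)
  let uf : ∀ n, (TL g' ((Scheme.Modules.pullback f').obj O)).obj (I.cocomplex.X n) ⟶ R.cocomplex.X n :=
    fun n => (rho g' f' (I.cocomplex.X n)).hom ≫ w n
  have huf : ∀ m n, uf m ≫ R.cocomplex.d m n =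
      (TL g' ((Scheme.Modules.pullback f').obj O)).map (I.cocomplex.d m n) ≫ uf n := fun m n => by
    show ((rho g' f' _).hom ≫ w m) ≫ P.cocomplex.d m n = _
    rw [← Category.assoc ((TL g' _).map _), rho_natural, Category.assoc, Category.assoc]
    congr 1
    show (adj'.homEquiv _ _).symm _ ≫ _ = _ ≫ (adj'.homEquiv _ _).symm _
    rw [← adj'.homEquiv_naturality_right_symm, ← adj'.homEquiv_naturality_left_symm]
    exact congrArg _ ((liftUnit (g' := g') M).comm m n)
  have hu : (TL g' ((Scheme.Modules.pullback f').obj O)).map I.ι ≫ uf 0 = R.ι := by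
    show _ ≫ (rho g' f' _).hom ≫ w 0 = ((CochainComplex.single₀ X'.Modules).map (rho g' f' M).hom ≫ P.ι).f 0
    rw [← Category.assoc, rho_natural, Category.assoc, HomologicalComplex.comp_f,
      CochainComplex.single₀_map_f_zero]
    congr 1
    show _ ≫ (adj'.homEquiv _ _).symm _ = _
    rw [← adj'.homEquiv_naturality_left_symm, Equiv.symm_apply_eq, Adjunction.homEquiv_unit]
    exact liftUnit_zero M
  haveI := isIso_bigTheta sq M O hO I R uf huf hu q
  let C := pushCx f I.cocomplex
  haveI : (TL g O).Additive := additive_TL g O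
  haveI : PreservesFiniteColimits (TL g O) := preservesFiniteColimits_TL g O
  suffices h : bigTheta sq O uf huf q = (OX.tensorUnitLeftIso ((Scheme.Modules.pullback g).obj (C.homology q))).hom ≫
      transHom (Scheme.Modules.pullbackPushforwardAdjunction g) (bcCx sq M) q by
    haveI : IsIso ((OX.tensorUnitLeftIso ((Scheme.Modules.pullback g).obj (C.homology q))).hom ≫
      transHom (Scheme.Modules.pullbackPushforwardAdjunction g) (bcCx sq M) q) := h ▸ inferInstance
    exact IsIso.of_isIso_comp_left (OX.tensorUnitLeftIso ((Scheme.Modules.pullback g).obj (C.homology q))).hom _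
  have hcyc : kappa sq O uf huf q = (OX.tensorUnitLeftIso ((Scheme.Modules.pullback g).obj (C.cycles q))).hom ≫
      transCyc (Scheme.Modules.pullbackPushforwardAdjunction g) (bcCx sq M) q := by
    rw [← cancel_mono ((pushCx f' R.cocomplex).iCycles q), kappa, HomologicalComplex.liftCycles_i, Category.assoc]
    erw [transCyc_i]
    rw [← Category.assoc, ← FunMor20.tensorUnitLeftIso_natural, Category.assoc]
    refine congrArg (((TL g O).map (C.iCycles q)) ≫ ·) ?_
    show theta sq O _ ≫ (Scheme.Modules.pushforward f').map (uf q) =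
      _ ≫ ((Scheme.Modules.pullbackPushforwardAdjunction g).homEquiv _ _).symm
        ((Scheme.Modules.pushforward f).map ((liftUnit (g' := g') M).f q) ≫ (sqIso sq).hom.app _)
    rw [bcMap_transpose, Functor.map_comp, ← Category.assoc, theta_rho, Category.assoc]
    rfl
  haveI : Epi ((TL g O).map (C.homologyπ q)) := inferInstance
  rw [← cancel_epi ((TL g O).map (C.homologyπ q)), π_bigTheta, hcyc, Category.assoc]
  show _ = ((DCoh.tensorBi (X := S')).obj O).map ((Scheme.Modules.pullback g).map (C.homologyπ q)) ≫ _
  rw [reassoc_of% (FunMor20.tensorUnitLeftIso_natural ((Scheme.Modules.pullback g).map (C.homologyπ q)))]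
  erw [π_transHom]
  rfl

/-- **Flat base change**: the base change morphism is an isomorphism in each degree. -/
theorem isIso_bcQ [QuasiCompact f] [QuasiSeparated f] [Flat g] (M : X.Modules) [M.IsQuasicoherent] (q : ℕ) :
    IsIso (CohBC.bcQ f g f' g' sq.w q M) := by
  haveI := isIso_transHom sq M q
  rw [bcQ_eq sq M q]
  infer_instance

end GrothLib.BCQFlat20
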