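import Groth.Agent.Lib.GenFlatBC9.Main

/-!
# The comparison of complexes computes base change, for any lift
-/

set_option autoImplicit false
set_option backward.isDefEq.respectTransparency false
set_option linter.style.haveILetI false
set_option maxHeartbeats 2000000
universe u

open CategoryTheory CategoryTheory.Limits AlgebraicGeometry Opposite TopologicalSpace TensorProduct
open GrothLib.OX (tmulSec)
open GrothLib.BCCoh (pullRes)
open GrothLib.Cohom (pushCx)
open GrothLib GrothLib.GenFlatBC9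

noncomputable section

namespace GrothLib.BCQFlat20

variable {X S X' S' : Scheme.{u}} {f : X ⟶ S} {g : S' ⟶ S} {g' : X' ⟶ X} {f' : X' ⟶ S'}

/-- Any map of resolutions over the identity induces isomorphisms of higher direct images. -/
theorem isIso_bigTheta (sq : IsPullback g' f' f g) [QuasiCompact f] [QuasiSeparated f]
    [QuasiCompact f'] [QuasiSeparated f']
    (F : X.Modules) [F.IsQuasicoherent] (G : S'.Modules) [G.IsQuasicoherent]
    (hG : FlatMod.IsFlatOver g G) (I : Cohom.FlRes F) (R : Cohom.FlRes (tgtMod G F f' g'))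
    [(tgtMod G F f' g').IsQuasicoherent]
    (uf : ∀ n, (TL g' ((Scheme.Modules.pullback f').obj G)).obj (I.cocomplex.X n) ⟶ R.cocomplex.X n)
    (huf : ∀ m n, uf m ≫ R.cocomplex.d m n =
      (TL g' ((Scheme.Modules.pullback f').obj G)).map (I.cocomplex.d m n) ≫ uf n)
    (hu : (TL g' ((Scheme.Modules.pullback f').obj G)).map I.ι ≫ uf 0 = R.ι) (p : ℕ) :
    IsIso (bigTheta sq G uf huf p) := by
  let T := TL g' ((Scheme.Modules.pullback f').obj G)
  let P := TL g G
  haveI : T.Additive := additive_TL g' _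
  let u : (T.mapHomologicalComplex _).obj I.cocomplex ⟶ R.cocomplex :=
    { f := uf
      comm' := fun i j _ => huf i j }
  haveI : ((Scheme.Modules.pullback f').obj G).IsQuasicoherent := FittSheaf.isQuasicoherent_pullback f' G
  haveI : ((Scheme.Modules.pullback g').obj F).IsQuasicoherent := FittSheaf.isQuasicoherent_pullback g' F
  let C := pushCx f I.cocomplex
  let D := pushCx f' R.cocomplex
  haveI : (Scheme.Modules.pushforward f').Additive :=
    (Scheme.Modules.pullbackPushforwardAdjunction f').right_adjoint_additive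
  haveI : (Scheme.Modules.pushforward f).Additive :=
    (Scheme.Modules.pullbackPushforwardAdjunction f).right_adjoint_additive
  haveI : P.Additive := additive_TL g G
  haveI : PreservesFiniteColimits P := preservesFiniteColimits_TL g G
  let Θ : P.obj (C.homology p) ⟶ D.homology p :=
    bigTheta sq G u.f (fun m n => u.comm m n) p
  haveI hCq : (C.homology p).IsQuasicoherent :=
    Cocyc.isQuasicoherent_homology (Cohom.localises_pushCx f I p)
  haveI hDq : (D.homology p).IsQuasicoherent :=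
    Cocyc.isQuasicoherent_homology (Cohom.localises_pushCx f' R p)
  haveI : ((Scheme.Modules.pullback g).obj (C.homology p)).IsQuasicoherent :=
    FittSheaf.isQuasicoherent_pullback g _
  haveI : (P.obj (C.homology p)).IsQuasicoherent := isQuasicoherent_tens _ _
  show IsIso Θ
  let 𝒰 := {V' : S'.Opens // IsAffineOpen V' ∧ ∃ V : S.Opens, IsAffineOpen V ∧ V' ≤ g ⁻¹ᵁ V}
  refine QCoh.isIso_of_bijective_on_cover Θ (fun i : 𝒰 => i.1) ?_ (fun i => i.2.1) ?_
  · refine top_le_iff.1 fun s _ => ?_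
    obtain ⟨V, hV, hsV, -⟩ := exists_isAffineOpen_mem_and_subset (show g s ∈ (⊤ : S.Opens) from trivial)
    obtain ⟨V', hV', hsV', e⟩ := exists_isAffineOpen_mem_and_subset (show s ∈ g ⁻¹ᵁ V from hsV)
    exact Opens.mem_iSup.2 ⟨⟨V', hV', V, hV, e⟩, hsV'⟩
  rintro ⟨V', hV', V, hV, eV⟩
  letI := modOver g G eV
  haveI : Module.Flat Γ(S, V) Γ(G, V') := BCCoh.flat_sections g G hG hV' hV eV
  haveI := isAffineHom_qMap sq eV hV hV'
  haveI : (tgtMod G F f' g' |>.restrict (f' ⁻¹ᵁ V').ι).IsQuasicoherent := inferInstance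
  let I₁ : Cohom.FlRes (srcMod (f := f) (V := V) F) := I.restrict (f ⁻¹ᵁ V).ι
  let J₁ : Cohom.FlRes (pushTgt sq eV (tgtMod G F f' g')) :=
    pushRes (qMap sq eV) (R.restrict (f' ⁻¹ᵁ V').ι)
  -- the comparison on classes
  haveI : CompactSpace ((f ⁻¹ᵁ V : X.Opens) : Scheme.{u}) :=
    isCompact_iff_compactSpace.1 (f.isCompact_preimage hV.isCompact)
  haveI : QuasiSeparatedSpace ((f ⁻¹ᵁ V : X.Opens) : Scheme.{u}) :=
    isQuasiSeparated_iff_quasiSeparatedSpace _ (f ⁻¹ᵁ V).2 |>.1 (f.isQuasiSeparated_preimage hV.isQuasiSeparated)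
  let d := datW sq G eV F
  have hgood : FlatTensorCoh.Good d (Cohom.freeFun.obj ⊤) :=
    FlatTensorCoh.good_of_isCompact d (fun hU => good_affine_datW sq G eV F hV hV' hU) (by simpa using isCompact_univ)
  have hW : f ⁻¹ᵁ V ≤ (f ⁻¹ᵁ V).ι ''ᵁ ⊤ := (f ⁻¹ᵁ V).ι_image_top.ge
  have hW₁ : (f ⁻¹ᵁ V).ι ''ᵁ ⊤ ≤ f ⁻¹ᵁ V := (f ⁻¹ᵁ V).ι_image_top.le
  have hW' : f' ⁻¹ᵁ V' ≤ (f' ⁻¹ᵁ V').ι ''ᵁ (qMap sq eV ⁻¹ᵁ ⊤) := by
    rw [Scheme.Hom.preimage_top]; exact (f' ⁻¹ᵁ V').ι_image_top.ge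
  have hW₁' : (f' ⁻¹ᵁ V').ι ''ᵁ (qMap sq eV ⁻¹ᵁ ⊤) ≤ f' ⁻¹ᵁ V' := qImage_le' sq eV ⊤
  obtain ⟨e₁, he₁⟩ := exists_classEquiv I₁ C hV p (Cohom.localises_pushCx f I p)
    (fun n => rsEquiv (I.cocomplex.X n) hW hW₁) (fun m n z => (Cocyc.app_rs (I.cocomplex.d m n) hW z).symm)
  obtain ⟨e₂, he₂⟩ := exists_classEquiv J₁ D hV' p (Cohom.localises_pushCx f' R p)
    (fun n => rsEquiv (R.cocomplex.X n) hW' hW₁') (fun m n z => (Cocyc.app_rs (R.cocomplex.d m n) hW' z).symm)
  obtain ⟨β, hβ, hβv⟩ := bijective_baseCmp (g := g) G (C.homology p) hV hV' eV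
  let e₁' : FlatTensorCoh.EF d (Cohom.freeFun.obj ⊤) p ≃ₗ[Γ(S, V)] Γ(C.homology p, V) :=
    AddEquiv.toLinearEquiv (show FlatTensorCoh.EF d (Cohom.freeFun.obj ⊤) p ≃+ Γ(C.homology p, V) from e₁)
      fun a x => classEquiv_smul I hV p e₁ he₁ a x
  let E : Γ(G, V') ⊗[Γ(S, V)] FlatTensorCoh.EF d (Cohom.freeFun.obj ⊤) p ≃ₗ[Γ(S, V)]
      Γ(G, V') ⊗[Γ(S, V)] Γ(C.homology p, V) := TensorProduct.congr (LinearEquiv.refl _ _) e₁'
  have key : ∀ t, Θ.app V' (β (E t)) = e₂ (FlatTensorCoh.cmp d (Cohom.freeFun.obj ⊤) p t) := by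
    intro t
    induction t using TensorProduct.induction_on with
    | zero => rw [map_zero E, map_zero β, map_zero, map_zero, map_zero]
    | add a b ha hb => rw [map_add E, map_add β, map_add, map_add, map_add, ha, hb]
    | tmul m x =>
      obtain ⟨z, rfl⟩ := Cohom.cocClass_surjective I₁ p _
        (show Abelian.Ext.{u} (Cohom.freeFun.obj ⊤) (Coh.toAb (srcMod (f := f) (V := V) F)) p from x)
      let ψ : Cohom.abCx I₁ ⟶ Cohom.abCx J₁ :=
        { f := fun n => psi sq G eV (u.f n) m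
          comm' := fun i j _ => (psi_comm sq G eV (I.cocomplex.d i j) (R.cocomplex.d i j) (u.f i) (u.f j)
            (u.comm i j).symm m).symm }
      have h0 : (QCoh.toAbFun _).map I₁.ι ≫ ψ.f 0 =
          psi sq G eV (𝟙 (tgtMod G F f' g')) m ≫ (QCoh.toAbFun _).map J₁.ι :=
        psi_comm sq G eV I.ι R.ι (𝟙 _) (u.f 0) (by rw [Category.id_comp]; exact hu) m
      show Θ.app V' (β (m ⊗ₜ e₁ (Cohom.cocClass I₁ p ⊤ z))) =
        e₂ ((Cohom.cocClass I₁ p ⊤ z).comp (Abelian.Ext.mk₀ (psi sq G eV (𝟙 (tgtMod G F f' g')) m)) (add_zero p))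
      rw [← cocClass_map I₁ J₁ ψ _ h0 p ⊤ z]
      obtain ⟨hz₀, hw, hval⟩ := bigTheta_top sq G u.f (fun m n => u.comm m n) p eV m z.1 z.2
      refine (congrArg (fun t => Θ.app V' (β (m ⊗ₜ t))) (he₁ z hz₀)).trans ?_
      refine (congrArg (Θ.app V') (hβv m _)).trans ?_
      exact hval.trans (he₂ ⟨_, coc_map I₁ J₁ ψ z⟩ hw).symm
  have hb : Function.Bijective fun t => Θ.app V' (β (E t)) := by
    rw [show (fun t => Θ.app V' (β (E t))) = _ from funext key]
    exact e₂.bijective.comp (hgood p)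
  have hEb : Function.Bijective fun t => β (E t) := hβ.comp E.bijective
  obtain ⟨inv, hinv₁, hinv₂⟩ := Function.bijective_iff_has_inverse.1 hEb
  have e : ⇑(Θ.app V') = (fun t => Θ.app V' (β (E t))) ∘ inv := funext fun y => (congrArg (Θ.app V') (hinv₂ y)).symm
  show Function.Bijective (Θ.app V')
  rw [e]
  exact hb.comp (Function.bijective_iff_has_inverse.2 ⟨fun t => β (E t), hinv₂, hinv₁⟩)

end GrothLib.BCQFlat20
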